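import Cfsg.Agent.H325.Cov.KE7_m3
import Cfsg.Agent.H823.O8R.Over
import Cfsg.Agent.H884.ElO8
import Cfsg.Agent.H454.Reg.Alt.Affine_m3
import Cfsg.Agent.H955.QMinus
import Cfsg.Agent.H81.CycSInd
import Cfsg.Agent.S0287
import Cfsg.Agent.S0288
import Cfsg.Agent.H884.ExtGL
import Cfsg.Agent.H372.O8R.Ord_mg_m3
import Cfsg.Agent.Prune
set_option linter.all false

section
prune_inst 0x7fffbdffbbf9ffdfdfff7e77f6ddcdfdffbbbfffe4dff9cbffe069df2bdf6b1a4dc5f3ad8beb11fe1eb6ca1410ec7bc3fbffeeffe26bdc7ffffd5ff45ffbee5ffdf7bd0851968c340fbc0ff70bf0778e7f3fffffffffffffffffffffffffffbeffbfffffffff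

-- part: H683/O8R/Geo34
section
prune_inst 0x400200002000000808201002000400000800003000081020840000008000000064002000000000090000000000000100000400000000000000000020000000002000200010426008e000000000000000000000000000000000000000000000000000
set_option linter.all false
open scoped Cfsg.Agent.FastGrp

-- part: H683/O8R/Tens
section
/-!
# S3691, `PΩ₈⁺(q)`, box F34: tensor products (helper683)
-/

set_option autoImplicit false
set_option linter.unusedSectionVars false

namespace Cfsg.Agent.H683.O8R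

open Module QuadraticMap Cfsg Cfsg.Geo Cfsg.Agent.LieClassical.OrthCore Cfsg.Agent.H955 Cfsg.Agent.H954.TSing
open Cfsg.Agent.LieClassical.OmegaReindex
open Cfsg.Agent.H951 (fx cm Inv)
open Cfsg.Agent.H884.El
open Cfsg.Agent.H708.O8 (I8 T8 RB)
open Cfsg.Agent.H436 (Prim)
open Cfsg.Agent.H823.O8R (even_of_irr exists_irr)
open scoped MatrixGroups Matrix Kronecker

section Kron

variable {ι : Type} [Fintype ι] [DecidableEq ι] {F : Type} [Field F] [Fintype F]

theorem transport_quad {κ : Type} [Fintype κ] [DecidableEq κ] (e : κ ≃ ι) (P : GL ι F) {C : Matrix κ κ F} {c d : F}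
    (hC : C * C = c • C - d • (1 : Matrix κ κ F)) {J : Matrix ι ι F}
    (hJ : J = (P : Matrix ι ι F) * Matrix.reindexAlgEquiv F F e C * ((P⁻¹ : GL ι F) : Matrix ι ι F)) :
    J * J = c • J - d • (1 : Matrix ι ι F) := by
  obtain ⟨R, hR⟩ : ∃ R, R = Matrix.reindexAlgEquiv F F e C := ⟨_, rfl⟩
  have h1 : R * R = c • R - d • (1 : Matrix ι ι F) := by
    rw [hR, ← map_mul, hC, map_sub, map_smul, map_smul, map_one]
  rw [← hR] at hJ
  have hP1 : ((P⁻¹ : GL ι F) : Matrix ι ι F) * (P : Matrix ι ι F) = 1 := by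
    rw [← Units.val_mul, inv_mul_cancel, Units.val_one]
  have hP2 : (P : Matrix ι ι F) * ((P⁻¹ : GL ι F) : Matrix ι ι F) = 1 := by
    rw [← Units.val_mul, mul_inv_cancel, Units.val_one]
  have h2 : J * J = (P : Matrix ι ι F) * (R * R) * ((P⁻¹ : GL ι F) : Matrix ι ι F) := by
    rw [hJ]
    calc (P : Matrix ι ι F) * R * ((P⁻¹ : GL ι F) : Matrix ι ι F) * ((P : Matrix ι ι F) * R * ((P⁻¹ : GL ι F) : Matrix ι ι F))
        = (P : Matrix ι ι F) * R * (((P⁻¹ : GL ι F) : Matrix ι ι F) * (P : Matrix ι ι F)) * R *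
          ((P⁻¹ : GL ι F) : Matrix ι ι F) := by simp only [Matrix.mul_assoc]
      _ = _ := by rw [hP1, Matrix.mul_one]; simp only [Matrix.mul_assoc]
  rw [h2, h1, Matrix.mul_sub, Matrix.sub_mul, Matrix.mul_smul, Matrix.smul_mul, ← hJ, Matrix.mul_smul, Matrix.mul_one,
    Matrix.smul_mul, hP2]

/-- an invertible matrix with an irreducible characteristic polynomial -/
theorem exists_mat (F : Type) [Field F] [Fintype F] : ∃ (j : GL (Fin 2) F) (c d : F), (∀ z : F, z * z - c * z + d ≠ 0) ∧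
    (j : Matrix (Fin 2) (Fin 2) F) * (j : Matrix (Fin 2) (Fin 2) F) =
      c • (j : Matrix (Fin 2) (Fin 2) F) - d • (1 : Matrix (Fin 2) (Fin 2) F) := by
  obtain ⟨c, d, h⟩ := _root_.Cfsg.Agent.H823.O8R.exists_irr F
  have hd : d ≠ 0 := by
    intro hd
    exact h 0 (by rw [hd]; ring)
  have hdet : (!![0, -d; 1, c] : Matrix (Fin 2) (Fin 2) F).det ≠ 0 := by
    rw [Matrix.det_fin_two_of]
    simpa using hd
  refine ⟨Matrix.GeneralLinearGroup.mkOfDetNeZero !![0, -d; 1, c] hdet, c, d, h, ?_⟩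
  have h1 : ((Matrix.GeneralLinearGroup.mkOfDetNeZero !![0, -d; 1, c] hdet : GL (Fin 2) F) : Matrix (Fin 2) (Fin 2) F) =
      !![0, -d; 1, c] := rfl
  rw [h1]
  ext i j
  (revert i j; simp only [Matrix.mul_apply, Fin.sum_univ_two, _root_.Fin.forall_fin_succ, _root_.Matrix.of_apply, _root_.Matrix.cons_val', _root_.Matrix.cons_val_fin_one, Fin.isValue, _root_.Matrix.cons_val_zero, _root_.Matrix.cons_val_one, _root_.Matrix.smul_of, _root_.Matrix.smul_cons, _root_.smul_eq_mul, _root_.MulZeroClass.mul_zero, _root_.mul_neg, _root_.Matrix.smul_empty, _root_.mul_one, _root_.Matrix.sub_apply, _root_.Matrix.smul_apply, _root_.zero_add, _root_.Matrix.cons_val_succ, _root_.IsEmpty.forall_iff, _root_.and_true, _root_.Matrix.one_apply_eq, _root_.zero_sub, _root_.MulZeroClass.zero_mul, _root_.neg_zero, _root_.neg_mul, Nat.reduceAdd, _root_.Fin.succ_zero_eq_one, _root_.ne_eq, _root_.zero_ne_one, _root_.not_false_eq_true, _root_.Matrix.one_apply_ne, _root_.sub_zero, _root_.neg_inj,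 _root_.true_and, _root_.Fin.succ_ne_zero, _root_.one_mul]) <;> (repeat' with_reducible apply And.intro) <;> ring

/-- an element whose order is prime to `|GL₂(q)|` modulo scalars -/
theorem scalar_of_pow {x : GL (Fin 2) F} {t : ℕ} (ht : t.Prime) (hd : ¬ t ∣ Nat.card (GL (Fin 2) F)) {c : F}
    (hx : ((x ^ t : GL (Fin 2) F) : Matrix (Fin 2) (Fin 2) F) = c • (1 : Matrix (Fin 2) (Fin 2) F)) :
    ∃ c' : F, (x : Matrix (Fin 2) (Fin 2) F) = c' • (1 : Matrix (Fin 2) (Fin 2) F) := by
  have hcop : t.Coprime (orderOf x) := by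
    rw [Nat.Prime.coprime_iff_not_dvd ht]
    exact fun h => hd (h.trans (orderOf_dvd_natCard x))
  obtain ⟨m, hm⟩ := exists_pow_eq_self_of_coprime hcop
  refine ⟨c ^ m, ?_⟩
  have h1 := congrArg (fun y : GL (Fin 2) F => (y : Matrix (Fin 2) (Fin 2) F)) hm
  beta_reduce at h1
  rw [Units.val_pow_eq_pow_val, hx, smul_pow, one_pow] at h1
  exact h1.symm

/-- a Kronecker product which is the identity -/
theorem kron_one {n₁ n₂ : ℕ} [NeZero n₂] {A : Matrix (Fin n₁) (Fin n₁) F} {B : Matrix (Fin n₂) (Fin n₂) F} (h : A ⊗ₖ B = 1) :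
    ∃ c : F, A = c • (1 : Matrix (Fin n₁) (Fin n₁) F) := by
  have h1 : ∀ i i' j j', A i i' * B j j' = if i = i' ∧ j = j' then 1 else 0 := by
    intro i i' j j'
    have := congrFun (congrFun h (i, j)) (i', j')
    rw [Matrix.kroneckerMap_apply, Matrix.one_apply] at this
    rw [this]
    simp only [Prod.mk.injEq]
  have hB : ∀ i : Fin n₁, B 0 0 ≠ 0 := by
    intro i h0
    have := h1 i i 0 0
    rw [h0, mul_zero] at this
    simp at this
  refine ⟨(B 0 0)⁻¹, ?_⟩
  ext i i'
  have h2 := h1 i i' 0 0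
  have h3 := hB i
  rw [Matrix.smul_apply, Matrix.one_apply, smul_eq_mul]
  by_cases hii : i = i'
  · rw [if_pos ⟨hii, rfl⟩] at h2
    rw [if_pos hii, mul_one]
    exact eq_inv_of_mul_eq_one_left h2
  · rw [if_neg (fun h => hii h.1)] at h2
    rw [if_neg hii, mul_zero]
    exact (mul_eq_zero.1 h2).resolve_right h3

theorem kron_one' {n₁ n₂ : ℕ} [NeZero n₁] {A : Matrix (Fin n₁) (Fin n₁) F} {B : Matrix (Fin n₂) (Fin n₂) F} (h : A ⊗ₖ B = 1) :
    ∃ c : F, B = c • (1 : Matrix (Fin n₂) (Fin n₂) F) := by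
  have h1 : ∀ i i' j j', A i i' * B j j' = if i = i' ∧ j = j' then 1 else 0 := by
    intro i i' j j'
    have := congrFun (congrFun h (i, j)) (i', j')
    rw [Matrix.kroneckerMap_apply, Matrix.one_apply] at this
    rw [this]
    simp only [Prod.mk.injEq]
  refine ⟨(A 0 0)⁻¹, ?_⟩
  ext j j'
  have h2 := h1 0 0 j j'
  have h3 : A 0 0 ≠ 0 := by
    intro h0
    have := h1 0 0 j j
    rw [h0, zero_mul] at this
    simp at this
  rw [Matrix.smul_apply, Matrix.one_apply, smul_eq_mul]
  by_cases hjj : j = j'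
  · rw [if_pos ⟨rfl, hjj⟩] at h2
    rw [if_pos hjj, mul_one]
    rw [mul_comm] at h2
    exact eq_inv_of_mul_eq_one_left h2
  · rw [if_neg (fun h => hjj h.2)] at h2
    rw [if_neg hjj, mul_zero]
    exact (mul_eq_zero.1 h2).resolve_left h3

theorem sub_kron {n₁ n₂ : ℕ} (A B : Matrix (Fin n₁) (Fin n₁) F) (C : Matrix (Fin n₂) (Fin n₂) F) :
    (A - B) ⊗ₖ C = A ⊗ₖ C - B ⊗ₖ C := by
  ext ⟨i, j⟩ ⟨i', j'⟩
  simp [sub_mul]

theorem kron_sub {n₁ n₂ : ℕ} (A : Matrix (Fin n₁) (Fin n₁) F) (B C : Matrix (Fin n₂) (Fin n₂) F) :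
    A ⊗ₖ (B - C) = A ⊗ₖ B - A ⊗ₖ C := by
  ext ⟨i, j⟩ ⟨i', j'⟩
  simp [mul_sub]

/-- **an element of order `t` of a tensor product subgroup commutes with a quadratic field** -/
theorem tensor_t {n₁ n₂ : ℕ} (e : ι ≃ Fin n₁ × Fin n₂) (P : GL ι F) (h1 : 2 ≤ n₁) (h1' : 2 ≤ n₂) (h12 : n₁ * n₂ = 8)
    {z : GL ι F} (hz : z ∈ tensorProductSubgroup n₁ n₂ e P) {t : ℕ} (ht : t.Prime) (hzt : z ^ t = 1)
    (hd : ¬ t ∣ Nat.card (GL (Fin 2) F)) :
    ∃ (J : Matrix ι ι F) (c d : F), (∀ z : F, z * z - c * z + d ≠ 0) ∧ J * J = c • J - d • (1 : Matrix ι ι F) ∧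
      (z : Matrix ι ι F) * J = J * (z : Matrix ι ι F) := by
  obtain ⟨⟨x, y⟩, hxy⟩ := mem_range_kronGL e P hz
  obtain ⟨j, c, d, hirr, hj⟩ := exists_mat F
  have hone : ((x ^ t : GL (Fin n₁) F) : Matrix (Fin n₁) (Fin n₁) F) ⊗ₖ ((y ^ t : GL (Fin n₂) F) : Matrix (Fin n₂) (Fin n₂) F) = 1 := by
    have h3 : kronGL e P (x ^ t, y ^ t) = 1 := by
      rw [← hzt, ← hxy, ← map_pow]
      rfl
    have h4 : kron n₁ n₂ F (x ^ t, y ^ t) = 1 := by
      apply (_root_.Cfsg.Geo.glReindex e.symm).injective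
      apply (MulAut.conj P).injective
      rw [map_one, map_one]
      exact h3
    exact congrArg Units.val h4
  have hcases : (n₁ = 2 ∧ n₂ = 4) ∨ (n₁ = 4 ∧ n₂ = 2) := by
    have h3 : n₁ ≤ 4 := by
      by_contra hcon
      push Not at hcon
      have := Nat.mul_le_mul hcon h1'
      omega
    interval_cases n₁ <;> (clear * - h12; omega)
  rcases hcases with ⟨rfl, rfl⟩ | ⟨rfl, rfl⟩
  · obtain ⟨c₁, hc₁⟩ := kron_one hone
    obtain ⟨c₂, hc₂⟩ := scalar_of_pow ht hd hc₁
    refine ⟨(kronGL e P (j, 1) : GL ι F), c, d, hirr, ?_, ?_⟩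
    · refine transport_quad e.symm P (C := (j : Matrix (Fin 2) (Fin 2) F) ⊗ₖ (1 : Matrix (Fin 4) (Fin 4) F)) ?_ (by rw [coe_kronGL]; rfl)
      rw [← Matrix.mul_kronecker_mul, mul_one, hj, sub_kron, Matrix.smul_kronecker, Matrix.smul_kronecker,
        Matrix.one_kronecker_one]
    · rw [← Units.val_mul, ← Units.val_mul, ← hxy, ← map_mul, ← map_mul]
      congr 2
      refine Prod.ext ?_ ?_
      · apply Units.ext
        change (x : Matrix (Fin 2) (Fin 2) F) * (j : Matrix (Fin 2) (Fin 2) F) = j * x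
        rw [hc₂, Matrix.smul_mul, Matrix.one_mul, Matrix.mul_smul, Matrix.mul_one]
      · show y * 1 = 1 * y
        rw [one_mul, mul_one]
  · obtain ⟨c₁, hc₁⟩ := kron_one' hone
    obtain ⟨c₂, hc₂⟩ := scalar_of_pow ht hd hc₁
    refine ⟨(kronGL e P (1, j) : GL ι F), c, d, hirr, ?_, ?_⟩
    · refine transport_quad e.symm P (C := (1 : Matrix (Fin 4) (Fin 4) F) ⊗ₖ (j : Matrix (Fin 2) (Fin 2) F)) ?_ (by rw [coe_kronGL]; rfl)
      rw [← Matrix.mul_kronecker_mul, mul_one, hj, kron_sub, Matrix.kronecker_smul, Matrix.kronecker_smul,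
        Matrix.one_kronecker_one]
    · rw [← Units.val_mul, ← Units.val_mul, ← hxy, ← map_mul, ← map_mul]
      congr 2
      refine Prod.ext ?_ ?_
      · show x * 1 = 1 * x
        rw [one_mul, mul_one]
      · apply Units.ext
        change (y : Matrix (Fin 2) (Fin 2) F) * (j : Matrix (Fin 2) (Fin 2) F) = j * y
        rw [hc₂, Matrix.smul_mul, Matrix.one_mul, Matrix.mul_smul, Matrix.mul_one]

end Kron

end Cfsg.Agent.H683.O8R
end

-- part: H683/O8R/Geo34
section
/-!
# S3691, `PΩ₈⁺(q)`, box F34: the geometric classes (helper683)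
-/

set_option autoImplicit false
set_option linter.unusedSectionVars false

namespace Cfsg.Agent.H683.O8R

open Module QuadraticMap Cfsg Cfsg.Geo Cfsg.Agent.LieClassical.OrthCore Cfsg.Agent.H955 Cfsg.Agent.H954.TSing
open Cfsg.Agent.LieClassical.OmegaReindex
open Cfsg.Agent.H951 (fx cm Inv)
open Cfsg.Agent.H884.El
open Cfsg.Agent.H708.O8
open Cfsg.Agent.H436 (Prim)
open Cfsg.Agent.H823.O8R (Nm even_of_irr)
open scoped MatrixGroups Matrix

variable {F : Type} [Field F] [Fintype F] {p a r b s k t : ℕ} {H : Subgroup (GL I8 F)}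

/-- the totally singular case -/
def TS4 (H : Subgroup (GL I8 F)) (N t : ℕ) : Prop :=
  ∃ (H' : Subgroup (GL I8 F)) (W : Submodule F (I8 → F)), H' ≤ H ∧ N ∣ Nat.card H' ∧ t ∣ Nat.card H' ∧
    finrank F W = 4 ∧ TS (quadPlus 4 F) W ∧ H' ≤ subspaceStabilizer W

/-- the subfield case -/
def Sub2 (H : Subgroup (GL I8 F)) : Prop :=
  ActsIrreducibly (matrixSet H) ∧ ∃ (F₁ : Subfield F) (B : GL I8 F) (ζ : F), ζ ≠ 0 ∧ Nat.card F = Nat.card F₁ ^ 2 ∧
    IsFormRationalStructure (polar (quadFormPlus 4 F)) F₁ ζ B ∧ H ≤ subfieldSubgroup F₁ B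

/-- `t` does not divide `|GL₂(q)|` -/
theorem not_dvd_gl2 {t : ℕ} (ht : PP (Nat.card F) 3 t) : ¬ t ∣ Nat.card (GL (Fin 2) F) := by
  classical
  intro h
  have hq : 1 < Nat.card F := Finite.one_lt_card
  rw [Matrix.card_GL_field, Fin.prod_univ_two, ← Nat.card_eq_fintype_card] at h
  have h1 : ∀ i, 0 < i → i < 3 → ¬ t ∣ Nat.card F ^ i - 1 := by
    intro i hi hi3 h2
    have := Nat.le_of_dvd hi ((ht.dvd_iff hq.le i).1 h2)
    omega
  rcases ht.prime.dvd_mul.1 h with h2 | h2
  · exact h1 2 (by norm_num) (by norm_num) (by simpa only [_root_.Nat.card_eq_fintype_card, _root_.Fin.isValue, _root_.Fin.coe_ofNat_eq_mod, _root_.Nat.zero_mod, _root_.pow_zero] using h2)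
  · have h3 : Nat.card F ^ 2 - Nat.card F ^ 1 = Nat.card F * (Nat.card F ^ 1 - 1) := by
      rw [pow_one, Nat.mul_sub, mul_one, pow_two]
    have h4 : t ∣ Nat.card F * (Nat.card F ^ 1 - 1) := by
      rw [← h3]
      simpa only [_root_.Nat.card_eq_fintype_card, _root_.pow_one, _root_.Fin.isValue, _root_.Fin.coe_ofNat_eq_mod, _root_.Nat.mod_succ] using h2
    rcases ht.prime.dvd_mul.1 h4 with h5 | h5
    · exact ht.not_dvd (by norm_num) h5
    · exact h1 1 (by norm_num) (by norm_num) h5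

/-- subfields of index at least three -/
theorem sub_two (hF : Nat.card F = p ^ a) (h : RB p a r b) {F₁ : Subfield F} {B : GL I8 F} (hH : H ≤ subfieldSubgroup F₁ B)
    {s : ℕ} (hs : s.Prime) (hcard : Nat.card F = Nat.card F₁ ^ s) (hd : r ∣ Nat.card H) : s = 2 := by
  have hq := Finite.one_lt_card (α := F)
  have hr4 := h.ppF hF
  have hp := h.hp
  have ha := h.ha
  have hrp : ¬ r ∣ Nat.card F - 1 := by
    intro h1
    have h2 := (hr4.dvd_iff (by omega) 1).1 (by rwa [pow_one])
    omega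
  obtain ⟨c, -, hc⟩ : ∃ c ≤ a, Nat.card F₁ = p ^ c := by
    have h1 : Nat.card F₁ ∣ p ^ a := by rw [← hF, hcard]; exact dvd_pow_self _ hs.ne_zero
    exact (Nat.dvd_prime_pow hp).1 h1
  have hac : a = c * s := by
    have h1 : p ^ a = p ^ (c * s) := by rw [← hF, hcard, hc, pow_mul]
    exact Nat.pow_right_injective hp.two_le h1
  have hc1 : 1 ≤ c := by
    rcases Nat.eq_zero_or_pos c with rfl | h
    · rw [zero_mul] at hac; omega
    · exact h
  have hrF : ¬ r ∣ Nat.card F := hr4.not_dvd (by norm_num)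
  rcases H251.GeoCard.subfield h.prim.prime hrF (hd.trans (Subgroup.card_dvd_of_le hH)) with h1 | h1
  · exact absurd h1 hrp
  · obtain ⟨i, hi1, hi2, hi3⟩ := h1
    have hi8 : i ≤ 8 := by
      have : Fintype.card I8 = 8 := by simp
      omega
    rw [hc, ← pow_mul, h.prim.dvd_iff] at hi3
    have h2 := Nat.le_of_dvd (Nat.mul_pos hc1 hi1) hi3
    rw [hac] at h2
    have h3 : 4 * s ≤ 8 := by
      have h4 : c * (4 * s) ≤ c * 8 := by
        calc c * (4 * s) = 4 * (c * s) := by ring
          _ ≤ c * i := h2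
          _ ≤ c * 8 := Nat.mul_le_mul_left _ hi8
      exact Nat.le_of_mul_le_mul_left h4 hc1
    have := hs.two_le
    omega

/-- **the geometric classes for `r₄`, `r₃`** -/
theorem geo34 (hF : Nat.card F = p ^ a) (h : Nm p a r b s k t) (hH : H ≤ isometryGroup F (quadFormPlus 4 F))
    (hrb : r ^ b ∣ Nat.card H) (ht : t ∣ Nat.card H) (hfree : ∀ y ∈ H, orderOf y = r → fx (lin y) = ⊥) :
    InOrthogonalResidualClass H ∨ TS4 H (r ^ b) t ∨ Sub2 H := by
  have hb1 : 1 ≤ b := h.rb.b1
  have hr : r ∣ Nat.card H := (dvd_pow_self r (by omega)).trans hrb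
  have hQ : Nondeg (quadPlus 4 F) := nondeg_iff.2 quadPlus_nondegenerate
  have hcoe : ⇑(quadPlus 4 F) = quadFormPlus 4 F := coe_quadPlus 4 F
  have hn : Fintype.card (Fin 4 ⊕ Fin 4) = 8 := by simp
  have hfin : finrank F (Fin 4 ⊕ Fin 4 → F) = 8 := by rw [finrank_V, hn]
  have hH' := hH
  rw [← hcoe] at hH'
  have h5 := h.rb.five
  have hP3 : PP (Nat.card F) 3 t := H823.O8R.Nm.pp3 hF h
  have hP4 : PP (Nat.card F) 4 r := h.rb.ppF hF
  have hq := one_lt_q F
  have hfinG : Finite (GL I8 F) := inferInstance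
  have htodd : Odd t := hP3.odd (by norm_num)
  have hrodd : Odd r := hP4.odd (by norm_num)
  -- the elements
  obtain ⟨z, hzH, hziso, hzt, hz1⟩ := exists_elt hH' hP3 (by omega) ht
  obtain ⟨hzcm, -, -⟩ := hziso.odd_case hQ (lin_ne_one hz1) hP3 (by decide) (by rw [hfin]; norm_num)
  have hzadd := hziso.finrank_add
  obtain ⟨y, hyH, hyiso, hyr, hy1⟩ := exists_elt hH' hP4 (by omega) hr
  have hfr := Fact.mk h.rb.prim.prime
  have hyfx : fx (lin y) = ⊥ := hfree y hyH (orderOf_eq_prime hyr hy1)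
  have hdim : ∀ W : Submodule F (I8 → F), _root_.Cfsg.Agent.H951.Inv (lin y) W → 4 ∣ finrank F W := by
    intro W hW
    have h1 := H951.ord_dvd_finrank hyiso.pow hW (by rw [hyfx, inf_bot_eq])
    rwa [ord_eq hP4] at h1
  -- a nondegenerate subspace invariant under `z` does not have dimension four
  have hznd : ∀ W : Submodule F (I8 → F), Nondeg (res (quadPlus 4 F) W) → _root_.Cfsg.Agent.H951.Inv (lin z) W → finrank F W ≠ 4 := by
    intro W hWn hW hd
    have h1 := hziso.even_inf hW hWn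
    have h3 := hziso.dvd hP3 hW
    have h4 := Submodule.finrank_mono (inf_le_left : W ⊓ cm (lin z) ≤ W)
    have h5 : finrank F ↥(W ⊓ cm (lin z)) = 0 := by
      obtain ⟨k, hk⟩ := h1
      obtain ⟨l, hl⟩ := h3
      omega
    have h6 := H951.finrank_inf_add hziso.ne0 hziso.pow hW
    have h8 := Submodule.finrank_mono (inf_le_right : W ⊓ fx (lin z) ≤ fx (lin z))
    have hfin' : finrank F (I8 → F) = 8 := hfin
    rw [hfin'] at hzadd
    omega
  have hdim' : ∀ W : Submodule F (Fin 4 ⊕ Fin 4 → F), _root_.Cfsg.Agent.H951.Inv (lin y) W → 4 ∣ finrank F W := hdim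
  by_cases hirr : ActsIrreducibly (matrixSet H)
  · rcases Cfsg.Agent.H925.orth_irreducible_fine (by omega) (Cfsg.Agent.H884.OddForm.isNondegenerate_of_nondeg _ hQ) hH' hirr with
      ⟨t', k', D, htk, hD, hHD, -⟩ | ⟨k', D, hk', hD, hDs, hHD⟩ | ⟨s', K, hs', hsn, hK, hadj, hHK⟩ |
      ⟨n₁, n₂, e, P, -, -, -, h1, h1', h12, -, -, -, -, hHT⟩ | ⟨F₁, s', B, ζ, -, hs', hcard, hζ, hrat, hHF⟩ |
      ⟨s', m, R, hRH, -, hHR, habs, hR, hchar, hm, hsm, -, ht', -⟩ | ⟨k', t', e, P, E, hkt, hW⟩ | hS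
    · exfalso
      have h2t := hD.decomp.decomp.two_le
      have hkpos := hD.decomp.decomp.pos
      have hinj : Function.Injective D := by
        intro i j hij
        by_contra hne
        have h1 := disjoint_iff.1 (hD.decomp.decomp.indep.pairwiseDisjoint hne)
        have h2 : D i ⊓ D j = ⊥ := h1
        rw [← hij, inf_idem] at h2
        have h3 := hD.decomp.decomp.finrank_eq i
        rw [h2, finrank_bot] at h3
        omega
      have ht8 : t' ∣ 8 := ⟨k', by rw [htk, hn]⟩
      obtain ⟨i, hi⟩ := exists_fixed_block hinj hHD hyH h.rb.prim.prime hyr (by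
        intro hd
        have h3 : r ∣ 2 ^ 3 := hd.trans ht8
        have := (Nat.prime_dvd_prime_iff_eq h.rb.prim.prime Nat.prime_two).1 (h.rb.prim.prime.dvd_of_dvd_pow h3)
        omega)
      have h4 := hdim _ hi
      rw [hD.decomp.decomp.finrank_eq i] at h4
      have hk4 : k' = 4 := by
        obtain ⟨c, hc⟩ := h4
        subst hc
        have h5 : t' * (4 * c) = 8 := by rw [htk, hn]
        have h6 : t' * c = 2 := by
          have : 4 * (t' * c) = 4 * 2 := by rw [show 4 * (t' * c) = t' * (4 * c) by ring, h5]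
          exact Nat.eq_of_mul_eq_mul_left (by norm_num) this
        have h7 : c ∣ 2 := Dvd.intro_left _ h6
        have h8 := Nat.le_of_dvd (by norm_num) h7
        interval_cases c
        · omega
        · rfl
        · omega
      subst hk4
      have ht2 : t' = 2 := by
        have : t' * 4 = 8 := by rw [htk, hn]
        omega
      subst ht2
      exact hznd (D 0) (nondeg_of_on (hD.decomp.nondegenerate 0)) (inv_of_fix hHD hzH htodd hzt 0)
        (hD.decomp.decomp.finrank_eq 0)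
    · right; left
      have hk4 : k' = 4 := by
        rw [hn] at hk'
        omega
      subst hk4
      let H1 : Subgroup H := (subspaceStabilizer (D 0)).subgroupOf H
      have hinj : Function.Injective D := by
        intro i j hij
        by_contra hne
        have h1 := disjoint_iff.1 (hD.indep.pairwiseDisjoint hne)
        have h2 : D i ⊓ D j = ⊥ := h1
        rw [← hij, inf_idem] at h2
        have h3 := hD.finrank_eq i
        rw [h2, finrank_bot] at h3
        omega
      have hmem : ∀ g ∈ H, ∀ σ : Equiv.Perm (Fin 2), (∀ i, (D i).map (Matrix.toLin' (g : Matrix I8 I8 F)) = D (σ i)) →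
          σ 0 = 0 → g ∈ subspaceStabilizer (D 0) := by
        intro g hg σ hσ h0
        refine H884.OmegaGL.mem_subspaceStabilizer.2 fun w hw => ?_
        have h1 := hσ 0
        rw [h0] at h1
        rw [← h1]
        exact ⟨w, hw, rfl⟩
      have hperm : ∀ σ τ : Equiv.Perm (Fin 2), σ 0 ≠ 0 → τ 0 ≠ 0 → (τ * σ) 0 = 0 := by decide
      have hcard2 : Nat.card H ∣ 2 * Nat.card H1 := by
        have key : ∀ a : H, a ∉ H1 → ∃ σ : Equiv.Perm (Fin 2),
            (∀ i, (D i).map (Matrix.toLin' ((a : GL I8 F) : Matrix I8 I8 F)) = D (σ i)) ∧ σ 0 ≠ 0 := by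
          intro a ha
          obtain ⟨σ, hσ⟩ := hHD a.2
          exact ⟨σ, hσ, fun h0 => ha (hmem a a.2 σ hσ h0)⟩
        by_cases hall : ∀ a, a ∈ H1
        · have : H1 = ⊤ := by ext x; exact ⟨fun _ => trivial, fun _ => hall x⟩
          rw [this, Subgroup.card_top]
          exact dvd_mul_left _ _
        · push Not at hall
          obtain ⟨a, ha⟩ := hall
          have h2 : H1.index = 2 := by
            rw [Subgroup.index_eq_two_iff]
            refine ⟨a, fun b => ?_⟩
            by_cases hb : b ∈ H1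
            · exact Or.inr ⟨hb, fun h3 => ha ((Subgroup.mul_mem_cancel_left H1 hb).1 h3)⟩
            · refine Or.inl ⟨?_, hb⟩
              obtain ⟨σ, hσ, h0⟩ := key a ha
              obtain ⟨τ, hτ, h0'⟩ := key b hb
              refine hmem _ (b * a).2 (τ * σ) (fun i => ?_) ?_
              · change (D i).map (Matrix.toLin' (((b : GL I8 F) * (a : GL I8 F) : GL I8 F) : Matrix I8 I8 F)) = _
                rw [Units.val_mul, Matrix.toLin'_mul, Submodule.map_comp, hσ, hτ]
                rfl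
              · exact hperm σ τ h0 h0'
          rw [← H1.card_mul_index, h2, mul_comm]
      have hodd : ∀ m, Odd m → m ∣ Nat.card H → m ∣ Nat.card (H1.map H.subtype) := by
        intro m hm hd
        rw [Subgroup.card_map_of_injective H.subtype_injective]
        have h3 : Nat.Coprime m 2 := Nat.Coprime.symm ((Nat.coprime_two_left).2 hm)
        exact h3.dvd_of_dvd_mul_left (hd.trans hcard2)
      refine ⟨H1.map H.subtype, D 0, ?_, hodd _ hrodd.pow hrb, hodd _ htodd ht, hD.finrank_eq 0, hDs 0, ?_⟩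
      · rintro _ ⟨g, -, rfl⟩
        exact g.2
      · rintro _ ⟨g, hg, rfl⟩
        exact hg
    · exfalso
      rw [hn] at hsn
      have hs2 : s' = 2 := by
        have : s' ∣ 2 ^ 3 := hsn
        exact (Nat.prime_dvd_prime_iff_eq hs' Nat.prime_two).1 (hs'.dvd_of_dvd_pow this)
      subst hs2
      exact no_quadratic_field hQ hH' hP3 (by decide) le_rfl (by rw [hn]; norm_num) ht hK hHK
    · exfalso
      obtain ⟨J, c, d, hirr', hJ, hJz⟩ := tensor_t e P h1 h1' (by omega) (hHT hzH) hP3.prime hzt (not_dvd_gl2 hP3)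
      have hJl : Matrix.toLin' J * Matrix.toLin' J = c • Matrix.toLin' J - d • (1 : Module.End F (I8 → F)) := by
        apply LinearMap.ext
        intro v
        rw [Module.End.mul_apply, Matrix.toLin'_apply, Matrix.toLin'_apply, Matrix.mulVec_mulVec, hJ, Matrix.sub_mulVec,
          Matrix.smul_mulVec, Matrix.smul_mulVec, Matrix.one_mulVec]
        rfl
      refine hziso.no_quadratic hQ (lin_ne_one hz1) hP3 (by decide) le_rfl (by rw [hfin]; norm_num) (J := Matrix.toLin' J) ?_
        (fun W hW => ?_)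
      · intro v
        rw [lin, Matrix.toLin'_apply, Matrix.toLin'_apply, Matrix.toLin'_apply, Matrix.toLin'_apply,
          Matrix.mulVec_mulVec, Matrix.mulVec_mulVec, hJz]
      · refine even_of_irr (J := (Matrix.toLin' J).restrict hW) (c := c) (d := d) ?_ hirr'
        ext w : 2
        exact congrArg (fun g : Module.End F (I8 → F) => g w) hJl
    · right; right
      have hs2 := sub_two hF h.rb hHF hs' hcard hr
      subst hs2
      rw [hcoe] at hrat
      exact ⟨hirr, F₁, B, ζ, hζ, hcard, hrat, hHF⟩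
    · exfalso
      rcases h.rb.cases with ⟨h13, -⟩ | ⟨-, hb2, -⟩ | ⟨-, -, hp23, ha1⟩
      · have := symp_le hHR habs hR hm hsm ht' hP4 (by norm_num) hr
        rw [hn] at this
        omega
      · exact kill_symp hF h.rb hRH hHR habs hR hm hsm ht' ((pow_dvd_pow r hb2).trans hrb)
      · have h16 := h.q16
        rw [ha1] at h16
        rcases hp23 with h0 | h0 <;> rw [h0] at h16 <;> norm_num at h16
    · exfalso
      have h2k := hW.two_le_m
      have h2t := hW.two_le_t
      have hk3 : k' < 3 := by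
        by_contra hcon
        push Not at hcon
        have h3 : 3 ^ 2 ≤ k' ^ t' := (Nat.pow_le_pow_left hcon 2).trans (Nat.pow_le_pow_right (by omega) h2t)
        omega
      have ht4 : t' < 4 := by
        by_contra hcon
        push Not at hcon
        have h3 : 2 ^ 4 ≤ k' ^ t' := (Nat.pow_le_pow_left h2k 4).trans (Nat.pow_le_pow_right (by omega) hcon)
        omega
      rcases H251.GeoCard.wreath e P hP4.prime (hP4.not_dvd (by omega))
        (hr.trans (Subgroup.card_dvd_of_le hW.wreath)) with h | h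
      · omega
      · have := le_of_div hP4 (one_lt_q F).le h
        omega
    · exact Or.inl hS
  · rcases Cfsg.Agent.H925.reducible_cases (Cfsg.Agent.H884.OddForm.isNondegenerate_of_nondeg _ hQ) hH' hirr with
      ⟨W, hW0, hWs, hHW⟩ | ⟨W, hW0, hWn, hd, hHW⟩ | ⟨-, v, hv, hHW⟩
    · right; left
      have h1 := hdim' W (inv_of_mem (hHW hyH))
      have h2 := two_mul_finrank_le hQ (U := W) hWs
      rw [hfin] at h2
      have h3 : finrank F W ≠ 0 := fun h0 => hW0 (Submodule.finrank_eq_zero.1 h0)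
      have h4 : finrank F W = 4 := by
        obtain ⟨c, hc⟩ := h1
        omega
      exact ⟨H, W, le_rfl, hrb, ht, h4, hWs, hHW⟩
    · exfalso
      have h1 := hdim' W (inv_of_mem (hHW hyH))
      have h3 : finrank F W ≠ 0 := fun h0 => hW0 (Submodule.finrank_eq_zero.1 h0)
      rw [hn] at hd
      have h4 : finrank F W = 4 := by
        obtain ⟨c, hc⟩ := h1
        omega
      exact hznd W (nondeg_of_on hWn) (inv_of_mem (hHW hzH)) h4
    · exfalso
      have hv0 : v ≠ 0 := by
        rintro rfl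
        exact hv (QuadraticMap.map_zero _)
      have hs1 := finrank_span_singleton (K := F) hv0
      have h1 := hdim _ (inv_of_mem (hHW hyH))
      rw [hs1] at h1
      omega

end Cfsg.Agent.H683.O8R
end
end

-- part: H683/O8R/FourOf
section
prune_inst 0x40000004002000000000010002000000000002000000000000000000908402080800000008000041202008100000040010000000200000000000000011800000000000000000000000000000000000000000000000000000000000000000000000000000
set_option linter.all false
open scoped Cfsg.Agent.FastGrp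

-- part: H683/O8R/Card
section
/-!
# S3691, `PΩ₈⁺(q)`: orders of the groups exchanging two 4-spaces (helper683)
-/

set_option autoImplicit false
set_option linter.unusedSectionVars false

namespace Cfsg.Agent.H683.O8R

open Module QuadraticMap Cfsg Cfsg.Geo Cfsg.Agent.LieClassical.OrthCore Cfsg.Agent.H955 Cfsg.Agent.H954.TSing
open Cfsg.Agent.LieClassical.OmegaReindex Cfsg.Agent.LieClassical.OrthFinite Cfsg.Agent.LieClassical.QuadForms
open Cfsg.Agent.H951 (fx cm Inv)
open Cfsg.Agent.H884.El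
open Cfsg.Agent.H708.O8
open Cfsg.Agent.H436 (Prim)
open Cfsg.Agent.H111.Rg (rstr rstr_apply)
open Cfsg.Agent.H81.CycS (card_O_congr)
open scoped MatrixGroups Matrix

section four

variable {K : Type*} [Field K] [Fintype K] {V : Type*} [AddCommGroup V] [Module K V] [FiniteDimensional K V]

/-- the order of an orthogonal group of dimension four divides `2 q² (q⁴ - 1)²` -/
theorem card_O_four (Q : QuadraticForm K V) (hQ : Nondeg Q) (hd : finrank K V = 4) :
    Nat.card (O Q) ∣ 2 * Nat.card K ^ 2 * (Nat.card K ^ 4 - 1) ^ 2 := by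
  have hq : 1 < Nat.card K := Finite.one_lt_card
  have h4 : Nat.card K ^ 4 - 1 = (Nat.card K ^ 2 + 1) * (Nat.card K ^ 2 - 1) := by
    have h5 := Nat.sq_sub_sq (Nat.card K ^ 2) 1
    rw [one_pow, ← pow_mul] at h5
    exact h5
  by_cases hP : H955.IsPlus Q
  · obtain ⟨e, he⟩ := H955.exists_plus_equiv 2 Q hQ hd hP
    rw [card_O_congr e he, ← Nat.card_congr (isometryEquiv (plusForm 2 K)).toEquiv, coe_plusForm,
      S0287.result (F := K) (q := Nat.card K) Nat.card_eq_fintype_card.symm 2 (by norm_num)]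
    norm_num only [_root_.Nat.card_eq_fintype_card, _root_.Finset.range_one, _root_.Finset.prod_singleton]
    rw [Nat.card_eq_fintype_card] at h4
    rw [h4]
    exact ⟨(Fintype.card K ^ 2 + 1) ^ 2, by ring⟩
  · obtain ⟨a, b, hab⟩ := H955.exists_aniso_coeff K
    obtain ⟨e, he⟩ := H955.exists_minus_equiv hab 1 Q hQ hd hP
    have h6 := S0288.result (F := K) (q := Nat.card K) Nat.card_eq_fintype_card.symm 2 (by norm_num) a b hab
    rw [card_O_congr e he, ← Nat.card_congr (isometryEquiv (minusForm 1 K a b)).toEquiv, coe_minusForm]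
    rw [show 2 - 1 = 1 from rfl] at h6
    rw [h6]
    norm_num only [_root_.Nat.card_eq_fintype_card, _root_.Finset.range_one, _root_.Finset.prod_singleton]
    rw [Nat.card_eq_fintype_card] at h4
    rw [h4]
    exact ⟨(Fintype.card K ^ 2 + 1) * (Fintype.card K ^ 2 - 1), by ring⟩

/-- a group of isometries leaving invariant two complementary nondegenerate 4-spaces -/
theorem card_two {Q : QuadraticForm K V} {A : Subgroup (V ≃ₗ[K] V)} (hA : A ≤ O Q) {U W : Submodule K V}
    (hU : ∀ a ∈ A, ∀ x ∈ U, a x ∈ U) (hW : ∀ a ∈ A, ∀ x ∈ W, a x ∈ W) (hsup : U ⊔ W = ⊤) (hUn : Nondeg (res Q U))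
    (hWn : Nondeg (res Q W)) (hUd : finrank K U = 4) (hWd : finrank K W = 4) :
    Nat.card A ∣ (2 * Nat.card K ^ 2 * (Nat.card K ^ 4 - 1) ^ 2) * (2 * Nat.card K ^ 2 * (Nat.card K ^ 4 - 1) ^ 2) := by
  let ρ : A →* ↥(O (res Q U)) := (rstr hU).codRestrict (O (res Q U)) (fun a => by
    intro x
    rw [res_apply, res_apply, rstr_apply]
    exact hA a.2 x)
  let σ : A →* ↥(O (res Q W)) := (rstr hW).codRestrict (O (res Q W)) (fun a => by
    intro x
    rw [res_apply, res_apply, rstr_apply]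
    exact hA a.2 x)
  have hinj : Function.Injective (ρ.prod σ) := by
    rw [injective_iff_map_eq_one]
    intro a ha
    have h1 : ρ a = 1 := congrArg Prod.fst ha
    have h2 : σ a = 1 := congrArg Prod.snd ha
    have h3 : rstr hU a = 1 := congrArg Subtype.val h1
    have h4 : rstr hW a = 1 := congrArg Subtype.val h2
    apply Subtype.ext
    apply LinearEquiv.ext
    intro v
    have hv : v ∈ U ⊔ W := by rw [hsup]; exact Submodule.mem_top
    obtain ⟨x, hx, y, hy, rfl⟩ := Submodule.mem_sup.1 hv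
    have h5 := congrArg Subtype.val (LinearEquiv.congr_fun h3 (⟨x, hx⟩ : U))
    have h6 := congrArg Subtype.val (LinearEquiv.congr_fun h4 (⟨y, hy⟩ : W))
    have h7 : (a : V ≃ₗ[K] V) x = x := h5
    have h8 : (a : V ≃ₗ[K] V) y = y := h6
    rw [map_add, h7, h8]
    rfl
  have h1 := Subgroup.card_dvd_of_injective _ hinj
  rw [Nat.card_prod] at h1
  exact h1.trans (mul_dvd_mul (card_O_four _ hUn hUd) (card_O_four _ hWn hWd))

end four

/-- a subgroup of index at most two -/
theorem card_dvd_two_mul {G : Type*} [Group G] (H : Subgroup G) (h : ∀ a b : G, a ∉ H → b ∉ H → a * b ∈ H) :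
    Nat.card G ∣ 2 * Nat.card H := by
  by_cases hH : ∀ a, a ∈ H
  · have : H = ⊤ := by ext x; exact ⟨fun _ => trivial, fun _ => hH x⟩
    rw [this, Subgroup.card_top]
    exact dvd_mul_left _ _
  · push Not at hH
    obtain ⟨a, ha⟩ := hH
    have h2 : H.index = 2 := by
      rw [Subgroup.index_eq_two_iff]
      refine ⟨a, fun b => ?_⟩
      by_cases hb : b ∈ H
      · exact Or.inr ⟨hb, fun h3 => ha ((Subgroup.mul_mem_cancel_left H hb).1 h3)⟩
      · exact Or.inl ⟨h b a hb ha, hb⟩
    rw [← H.card_mul_index, h2, mul_comm]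

variable {F : Type} [Field F] [Fintype F] {p a r b : ℕ} {H : Subgroup (GL I8 F)} {g₁ g₂ : GL I8 F}

/-- **the groups exchanging the two 4-spaces** -/
theorem card_swap (hF : Nat.card F = p ^ a) (h : RB p a r b) (pr : Pair H g₁ g₂ r) (hsw : Swap H g₁ g₂) :
    Nat.card H ∣ 2 * ((2 * (p ^ a) ^ 2 * ((p ^ a) ^ 4 - 1) ^ 2) * (2 * (p ^ a) ^ 2 * ((p ^ a) ^ 4 - 1) ^ 2)) := by
  have hQ : Nondeg (quadPlus 4 F) := nondeg_iff.2 quadPlus_nondegenerate
  have hcoe : ⇑(quadPlus 4 F) = quadFormPlus 4 F := coe_quadPlus 4 F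
  have hH := pr.le
  rw [← hcoe] at hH
  have i₁ := iso_of hF h (pr.le pr.mem₁) pr.pow₁
  have i₂ := iso_of hF h (pr.le pr.mem₂) pr.pow₂
  have hnd1 : Nondeg (res (quadPlus 4 F) (cm (lin g₁))) := nondeg_cm hQ i₁.iso i₁.ne0 i₁.pow
  have hnd2 : Nondeg (res (quadPlus 4 F) (cm (lin g₂))) := nondeg_cm hQ i₂.iso i₂.ne0 i₂.pow
  have hpp : cm (lin g₂) = perp (quadPlus 4 F) (cm (lin g₁)) := by
    rw [perp_cm hQ i₁.iso i₁.ne0 i₁.pow, pr.cm₂]
  have hpp' : cm (lin g₁) = perp (quadPlus 4 F) (cm (lin g₂)) := by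
    rw [perp_cm hQ i₂.iso i₂.ne0 i₂.pow, pr.fx₂]
  have hperp : ∀ g ∈ H, ∀ W : Submodule F (I8 → F), _root_.Cfsg.Agent.H708.O8.tr g (perp (quadPlus 4 F) W) = perp (quadPlus 4 F) (_root_.Cfsg.Agent.H708.O8.tr g W) := by
    intro g hg W
    have hiso : ∀ v, quadPlus 4 F (lin g v) = quadPlus 4 F v := lin_iso hH hg
    apply Submodule.eq_of_le_of_finrank_eq
    · rintro _ ⟨w, hw, rfl⟩
      rintro _ ⟨y', hy', rfl⟩
      rw [polar_isom hiso]
      exact hw y' hy'
    · rw [finrank_tr]
      have h1 : finrank F (perp (quadPlus 4 F) (_root_.Cfsg.Agent.H708.O8.tr g W)) = finrank F (I8 → F) - finrank F (tr g W) := finrank_perp hQ (_root_.Cfsg.Agent.H708.O8.tr g W)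
      have h2 : finrank F (perp (quadPlus 4 F) W) = finrank F (I8 → F) - finrank F W := finrank_perp hQ W
      rw [h1, h2, finrank_tr]
  -- the subgroup fixing both
  let H1 : Subgroup H :=
    { carrier := {g | _root_.Cfsg.Agent.H708.O8.tr (g : GL I8 F) (cm (lin g₁)) = cm (lin g₁)}
      mul_mem' := by
        intro x y hx hy
        change _root_.Cfsg.Agent.H708.O8.tr (x * y : GL I8 F) _ = _
        rw [tr_mul]
        change _root_.Cfsg.Agent.H708.O8.tr (x : GL I8 F) (tr (y : GL I8 F) _) = _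
        rw [show _root_.Cfsg.Agent.H708.O8.tr (y : GL I8 F) (cm (lin g₁)) = cm (lin g₁) from hy]
        exact hx
      one_mem' := by change _root_.Cfsg.Agent.H708.O8.tr (1 : GL I8 F) _ = _; rw [tr_one]
      inv_mem' := by
        intro x hx
        change _root_.Cfsg.Agent.H708.O8.tr (x⁻¹ : GL I8 F) _ = _
        have h1 : _root_.Cfsg.Agent.H708.O8.tr (x : GL I8 F) (cm (lin g₁)) = cm (lin g₁) := hx
        conv_lhs => rw [← h1]
        rw [← tr_mul, inv_mul_cancel, tr_one] }
  have hH1 : ∀ x : H, x ∈ H1 ↔ _root_.Cfsg.Agent.H708.O8.tr (x : GL I8 F) (cm (lin g₁)) = cm (lin g₁) := fun x => Iff.rfl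
  have hsw2 : ∀ x : H, x ∉ H1 → _root_.Cfsg.Agent.H708.O8.tr (x : GL I8 F) (cm (lin g₁)) = cm (lin g₂) := fun x hx => (hsw x x.2).resolve_left hx
  have h1 : Nat.card H ∣ 2 * Nat.card H1 := by
    apply card_dvd_two_mul
    intro x y hx hy
    rw [hH1, Subgroup.coe_mul, tr_mul, hsw2 y hy, hpp, hperp _ x.2, hsw2 x hx, ← hpp']
  refine h1.trans (mul_dvd_mul_left 2 ?_)
  rw [← hF]
  let A : Subgroup ((I8 → F) ≃ₗ[F] (I8 → F)) := (H1.map H.subtype).map (glEquiv I8 F).toMonoidHom
  have hA : Nat.card H1 = Nat.card A := by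
    rw [Subgroup.card_map_of_injective (glEquiv I8 F).injective, Subgroup.card_map_of_injective H.subtype_injective]
  rw [hA]
  have hmem : ∀ x ∈ A, ∃ g ∈ H, _root_.Cfsg.Agent.H708.O8.tr g (cm (lin g₁)) = cm (lin g₁) ∧ ∀ v, x v = lin g v := by
    rintro x ⟨g', ⟨g, hg, rfl⟩, rfl⟩
    exact ⟨g, g.2, hg, fun v => rfl⟩
  refine card_two (Q := quadPlus 4 F) (A := A) ?_ (U := cm (lin g₁)) (W := cm (lin g₂)) ?_ ?_ (pr.codisj hF h) hnd1 hnd2
    pr.dim₁ pr.dim₂
  · intro x hx
    obtain ⟨g, hg, -, hgx⟩ := hmem x hx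
    intro v
    have hiso : ∀ v, quadPlus 4 F (lin g v) = quadPlus 4 F v := lin_iso hH hg
    rw [hgx, hiso]
  · intro x hx v hv
    obtain ⟨g, hg, hgt, hgx⟩ := hmem x hx
    rw [hgx, ← hgt]
    exact ⟨v, hv, rfl⟩
  · intro x hx v hv
    obtain ⟨g, hg, hgt, hgx⟩ := hmem x hx
    have h2 : _root_.Cfsg.Agent.H708.O8.tr g (cm (lin g₂)) = cm (lin g₂) := by rw [hpp, hperp g hg, hgt]
    rw [hgx, ← h2]
    exact ⟨v, hv, rfl⟩

end Cfsg.Agent.H683.O8R
end

-- part: H683/O8R/KForm
section
/-!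
# S3691, `PΩ₈⁺(q)`: forms over a self-adjoint quadratic field (helper683)
-/

set_option autoImplicit false
set_option linter.unusedSectionVars false
set_option linter.style.haveILetI false

namespace Cfsg.Agent.H683.O8R

open Module QuadraticMap Cfsg Cfsg.Geo Cfsg.Agent.LieClassical.OrthCore Cfsg.Agent.H955 Cfsg.Agent.H954.TSing
open Cfsg.Agent.LieClassical.OmegaReindex Cfsg.Agent.LieClassical.OrthFinite Cfsg.Agent.LieClassical.QuadForms
open Cfsg.Agent.H951 (fx cm Inv)
open Cfsg.Agent.H884.El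
open Cfsg.Agent.H708.O8
open Cfsg.Agent.H436 (Prim)
open Cfsg.Agent.H81.CycS (card_O_congr)
open Cfsg.Agent.H884.Ext (exists_trace trace_ext trace_ext' exists_TF)
open scoped MatrixGroups Matrix

section Form

variable {F K V : Type*} [Field F] [Field K] [Algebra F K] [AddCommGroup V] [Module F V] [Module K V]
  [IsScalarTower F K V]

/-- characteristic two -/
theorem exists_QK_two [Finite K] {Q : QuadraticForm F V} (h2 : (2 : F) = 0) (hnd : Nondeg Q)
    (hsa : ∀ (k : K) (u v : V), polar Q (k • u) v = polar Q u (k • v))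
    (hal : ∀ (k : K) (v : V), polar Q (k • v) v = 0) :
    ∃ QK : QuadraticForm K V, Nondeg QK ∧ ∀ (k : K) (v : V), Q (k • v) = Algebra.trace F K (k * k * QK v) := by
  have hFfin : Finite F := Finite.of_injective _ (algebraMap F K).injective
  have h2K : (2 : K) = 0 := by
    have := congrArg (algebraMap F K) h2
    rwa [map_ofNat, map_zero] at this
  have hcF : CharP F 2 := CharTwo.of_one_ne_zero_of_two_eq_zero one_ne_zero h2
  have hcK : CharP K 2 := CharTwo.of_one_ne_zero_of_two_eq_zero one_ne_zero h2K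
  have hsqF : ∀ c : F, ∃ d : F, d * d = c := by
    intro c
    have hb : Function.Bijective (frobenius F 2) := Finite.injective_iff_bijective.1 (frobenius_inj F 2)
    obtain ⟨d, hd⟩ := hb.2 c
    exact ⟨d, by rw [← hd, frobenius_def, pow_two]⟩
  have hbK : Function.Bijective (frobenius K 2) := Finite.injective_iff_bijective.1 (frobenius_inj K 2)
  have hsqK : ∀ c : K, ∃ d : K, d * d = c := by
    intro c
    obtain ⟨d, hd⟩ := hbK.2 c
    exact ⟨d, by rw [← hd, frobenius_def, pow_two]⟩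
  choose s hs using hsqK
  have hinj : ∀ x y : K, x * x = y * y → x = y := by
    intro x y hxy
    apply hbK.1
    rw [frobenius_def, frobenius_def, pow_two, pow_two, hxy]
  have hsadd : ∀ x y, s (x + y) = s x + s y := by
    intro x y
    apply hinj
    rw [hs]
    have : (s x + s y) * (s x + s y) = s x * s x + s y * s y + 2 * (s x * s y) := by ring
    rw [this, hs, hs, h2K, zero_mul, add_zero]
  have hssq : ∀ x, s (x * x) = x := by
    intro x
    apply hinj
    rw [hs]
  have hext : ∀ {a b : K}, (∀ k, Algebra.trace F K (a * k) = Algebra.trace F K (b * k)) → a = b := by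
    intro a b hab
    apply trace_ext' (F := F)
    intro c
    rw [mul_comm c a, mul_comm c b, hab]
  have hsw : ∀ (k l : K) (u v : V), polar Q (k • u) (l • v) = polar Q ((l * k) • u) v := by
    intro k l u v
    rw [← hsa, smul_smul]
  have hQadd : ∀ (k l : K) (v : V), Q ((k + l) • v) = Q (k • v) + Q (l • v) := by
    intro k l v
    have h1 : Q (k • v + l • v) = Q (k • v) + Q (l • v) + polar Q (k • v) (l • v) := by rw [polar]; ring
    rw [add_smul, h1, hsw, hal, add_zero]
  -- the linear functionals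
  have hlin : ∀ v : V, ∃ φ : K →ₗ[F] F, ∀ k, φ k = Q (s k • v) := by
    intro v
    refine ⟨{ toFun := fun k => Q (s k • v), map_add' := fun k l => by rw [hsadd, hQadd], map_smul' := fun c k => ?_ },
      fun k => rfl⟩
    obtain ⟨d, rfl⟩ := hsqF c
    have h1 : s ((d * d) • k) = d • s k := by
      apply hinj
      rw [hs, smul_mul_smul_comm, hs]
    rw [h1, smul_assoc, QuadraticMap.map_smul]
    rfl
  have hexq : ∀ v : V, ∃ e : K, ∀ k, Q (k • v) = Algebra.trace F K (e * (k * k)) := by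
    intro v
    obtain ⟨φ, hφ⟩ := hlin v
    obtain ⟨e, he⟩ := exists_trace φ
    refine ⟨e, fun k => ?_⟩
    rw [← he, hφ, hssq]
  choose q hq using hexq
  have hexb : ∀ u v : V, ∃ e : K, ∀ k, polar Q (k • u) v = Algebra.trace F K (e * k) := by
    intro u v
    obtain ⟨e, he⟩ := exists_trace ((polarBilin Q).flip v ∘ₗ (LinearMap.toSpanSingleton K V u).restrictScalars F)
    exact ⟨e, fun k => by rw [← he]; rfl⟩
  choose f hf using hexb
  have hadd : ∀ u u' v, f (u + u') v = f u v + f u' v := by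
    intro u u' v
    apply hext
    intro k
    rw [← hf, smul_add, polar_add_left, hf, hf, add_mul, map_add]
  have hsmul : ∀ (c : K) u v, f (c • u) v = c * f u v := by
    intro c u v
    apply hext
    intro k
    rw [← hf, smul_smul, hf]
    ring_nf
  have hsymm : ∀ u v, f u v = f v u := by
    intro u v
    apply hext
    intro k
    rw [← hf, ← hf, hsa, polar_comm]
  let B : V →ₗ[K] V →ₗ[K] K := LinearMap.mk₂ K f hadd (fun c u v => by rw [hsmul, smul_eq_mul])
    (fun u v v' => by rw [hsymm, hadd, hsymm v, hsymm v'])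
    (fun c u v => by rw [hsymm, hsmul, hsymm v, smul_eq_mul])
  have hB : ∀ u v, B u v = f u v := fun u v => rfl
  have hqadd : ∀ u v, q (u + v) = q u + q v + f u v := by
    intro u v
    apply hext
    intro k
    obtain ⟨k, rfl⟩ : ∃ l, l * l = k := ⟨s k, hs k⟩
    have h1 : Q (k • u + k • v) = Q (k • u) + Q (k • v) + polar Q (k • u) (k • v) := by rw [polar]; ring
    rw [← hq, smul_add, h1, hsw, hq, hq, hf, add_mul, add_mul, map_add, map_add]
  have hqsmul : ∀ (c : K) v, q (c • v) = c * c * q v := by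
    intro c v
    apply hext
    intro k
    obtain ⟨k, rfl⟩ : ∃ l, l * l = k := ⟨s k, hs k⟩
    rw [← hq, smul_smul, hq]
    ring_nf
  let QK : QuadraticForm K V :=
    { toFun := q
      toFun_smul := fun c v => by rw [hqsmul, smul_eq_mul]
      exists_companion' := ⟨B, fun u v => by rw [hqadd, hB]⟩ }
  have hQK : ∀ v, QK v = q v := fun v => rfl
  have hpolar : ∀ u v, polar QK u v = f u v := by
    intro u v
    rw [polar, hQK, hQK, hQK, hqadd]
    ring
  refine ⟨QK, fun x hx => ?_, fun k v => ?_⟩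
  · apply hnd
    intro y
    have h3 := hx y
    rw [hpolar] at h3
    have := hf x y 1
    rwa [h3, one_smul, zero_mul, map_zero] at this
  · rw [hq, hQK, mul_comm]

/-- **the form over the field** -/
theorem exists_QK [Finite K] {Q : QuadraticForm F V} (hnd : Nondeg Q)
    (hsa : ∀ (k : K) (u v : V), polar Q (k • u) v = polar Q u (k • v))
    (hal : (2 : F) = 0 → ∀ (k : K) (v : V), polar Q (k • v) v = 0) :
    ∃ QK : QuadraticForm K V, Nondeg QK ∧ ∀ (k : K) (v : V), Q (k • v) = Algebra.trace F K (k * k * QK v) := by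
  by_cases h2 : (2 : F) = 0
  · exact exists_QK_two h2 hnd hsa (hal h2)
  · obtain ⟨QK, h⟩ := exists_TF h2 hnd hsa
    refine ⟨QK, h.nondeg, fun k v => ?_⟩
    rw [h.tr, QuadraticMap.map_smul, smul_eq_mul]

/-- isometries commuting with the field -/
theorem QK_pres [Finite K] {Q : QuadraticForm F V} {QK : QuadraticForm K V}
    (hQK : ∀ (k : K) (v : V), Q (k • v) = Algebra.trace F K (k * k * QK v)) (g : V ≃ₗ[K] V)
    (hg : ∀ v, Q (g v) = Q v) (v : V) : QK (g v) = QK v := by
  have h1 : ∀ k : K, Algebra.trace F K (k * k * (QK (g v) - QK v)) = 0 := by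
    intro k
    rw [mul_sub, map_sub, ← hQK, ← hQK, ← map_smul, hg, sub_self]
  rw [← sub_eq_zero]
  apply trace_ext (F := F)
  intro c
  by_cases h2 : (2 : K) = 0
  · have hcK : CharP K 2 := CharTwo.of_one_ne_zero_of_two_eq_zero one_ne_zero h2
    have hbK : Function.Bijective (frobenius K 2) := Finite.injective_iff_bijective.1 (frobenius_inj K 2)
    obtain ⟨d, hd⟩ := hbK.2 c
    rw [← hd, frobenius_def, pow_two]
    exact h1 d
  · have h3 : c = ((c + 1) / 2) * ((c + 1) / 2) - ((c - 1) / 2) * ((c - 1) / 2) := by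
      field_simp
      ring
    rw [h3, sub_mul, map_sub, h1, h1, sub_zero]

/-- the order of the centraliser of the field in the orthogonal group -/
theorem card_centralizer [Finite F] [Fintype K] [FiniteDimensional F V] {Q : QuadraticForm F V} (hnd : Nondeg Q)
    (hsa : ∀ (k : K) (u v : V), polar Q (k • u) v = polar Q u (k • v))
    (hal : (2 : F) = 0 → ∀ (k : K) (v : V), polar Q (k • v) v = 0) (hd : finrank K V = 4)
    {A : Subgroup (V ≃ₗ[F] V)} (hA : A ≤ O Q) (hAK : ∀ g ∈ A, ∀ (k : K) (v : V), g (k • v) = k • g v) :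
    Nat.card A ∣ 2 * Nat.card K ^ 2 * (Nat.card K ^ 4 - 1) ^ 2 := by
  obtain ⟨QK, hQn, hQK⟩ := exists_QK hnd hsa hal
  have hfd : FiniteDimensional K V := FiniteDimensional.of_finrank_pos (by omega)
  let toK : A →* (V ≃ₗ[K] V) :=
    { toFun := fun a =>
        { (a : V ≃ₗ[F] V).toAddEquiv with
          map_smul' := fun k v => hAK a a.2 k v }
      map_one' := by ext v; rfl
      map_mul' := fun a b => by ext v; rfl }
  have htoK : ∀ (a : A) (v : V), toK a v = (a : V ≃ₗ[F] V) v := fun a v => rfl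
  let ρ : A →* ↥(O QK) := toK.codRestrict (O QK) (fun a v => by
    refine QK_pres hQK (toK a) (fun v => ?_) v
    rw [htoK]
    exact hA a.2 v)
  have hinj : Function.Injective ρ := by
    rw [injective_iff_map_eq_one]
    intro a ha
    have h3 : toK a = 1 := congrArg Subtype.val ha
    apply Subtype.ext
    apply LinearEquiv.ext
    intro v
    rw [← htoK, h3]
    rfl
  exact (Subgroup.card_dvd_of_injective _ hinj).trans (card_O_four QK hQn hd)

end Form

end Cfsg.Agent.H683.O8R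
end

-- part: H683/O8R/FieldCard
section
/-!
# S3691, `PΩ₈⁺(q)`: order of a group with a pair normalising a quadratic field (helper683)
-/

set_option autoImplicit false
set_option linter.unusedSectionVars false
set_option linter.style.haveILetI false

namespace Cfsg.Agent.H683.O8R

open Module QuadraticMap Cfsg Cfsg.Geo Cfsg.Agent.LieClassical.OrthCore Cfsg.Agent.H955 Cfsg.Agent.H954.TSing
open Cfsg.Agent.LieClassical.OmegaReindex Cfsg.Agent.LieClassical.OrthFinite Cfsg.Agent.LieClassical.QuadForms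
open Cfsg.Agent.H951 (fx cm Inv)
open Cfsg.Agent.H884.El
open Cfsg.Agent.H708.O8
open Cfsg.Agent.H436 (Prim)
open Cfsg.Agent.H923 (fieldOf finrank_mul)
open scoped MatrixGroups Matrix

variable {F : Type} [Field F] [Fintype F] {p a r b : ℕ} {H : Subgroup (GL I8 F)} {g₁ g₂ : GL I8 F}

/-- the subgroup commuting with the field has index at most two -/
theorem card_comm {K : Subalgebra F (Matrix I8 I8 F)} (hK : IsFieldSubalgebra 2 K) (hHK : H ≤ subalgebraNormalizer K) :
    ∃ H1 : Subgroup (GL I8 F), H1 ≤ H ∧ Nat.card H ∣ 2 * Nat.card H1 ∧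
      ∀ g ∈ H1, ∀ k ∈ K, (g : Matrix I8 I8 F) * k = k * (g : Matrix I8 I8 F) := by
  have hne : Nonempty I8 := ⟨Sum.inl 0⟩
  have hN : H912.NormAlg H K := fun _ hh a ha => ((hHK hh) a).mp ha
  let _ : Field K := (H912.isField_of_fieldSub hK).toField
  have hfd : Module.Finite F K := inferInstance
  have hKfin : Finite K := Module.finite_of_finite F
  have hgal : IsGalois F K := inferInstance
  let φ : H →* (K ≃ₐ[F] K) :=
    { toFun := fun h => H912.conjSub hN h
      map_one' := by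
        apply AlgEquiv.ext
        intro x
        apply Subtype.ext
        rw [H912.conjSub_coe]
        simp only [_root_.OneMemClass.coe_one, _root_.Units.val_one, _root_.one_mul, _root_.inv_one, _root_.mul_one, _root_.AlgEquiv.one_apply]
      map_mul' := by
        intro x y
        apply AlgEquiv.ext
        intro z
        apply Subtype.ext
        rw [H912.conjSub_coe, AlgEquiv.mul_apply, H912.conjSub_coe, H912.conjSub_coe]
        rw [Subgroup.coe_mul, mul_inv_rev, Units.val_mul, Units.val_mul]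
        simp only [Matrix.mul_assoc] }
  have hφ : ∀ (h : H) (x : K), ((φ h x : K) : Matrix I8 I8 F) = ((h : GL I8 F) : Matrix I8 I8 F) * x *
      (((h : GL I8 F)⁻¹ : GL I8 F) : Matrix I8 I8 F) := fun h x => H912.conjSub_coe hN h x
  have hfinH : Finite H := inferInstance
  have hcard : Nat.card (K ≃ₐ[F] K) = 2 := by
    rw [IsGalois.card_aut_eq_finrank, hK.finrank_eq]
  refine ⟨φ.ker.map H.subtype, ?_, ?_, ?_⟩
  · rintro _ ⟨g, -, rfl⟩
    exact g.2
  · rw [Subgroup.card_map_of_injective H.subtype_injective, ← φ.ker.card_mul_index, mul_comm]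
    refine mul_dvd_mul_right ?_ _
    rw [Subgroup.index_ker, ← hcard]
    exact Subgroup.card_subgroup_dvd_card _
  · rintro _ ⟨g, hg, rfl⟩ k hk
    have h1 := hφ g ⟨k, hk⟩
    rw [MonoidHom.mem_ker.1 hg] at h1
    have h2 : k = ((g : GL I8 F) : Matrix I8 I8 F) * k * (((g : GL I8 F)⁻¹ : GL I8 F) : Matrix I8 I8 F) := h1
    have h3 : (((g : GL I8 F)⁻¹ : GL I8 F) : Matrix I8 I8 F) * ((g : GL I8 F) : Matrix I8 I8 F) = 1 := by
      rw [← Units.val_mul, inv_mul_cancel, Units.val_one]
    change ((g : GL I8 F) : Matrix I8 I8 F) * k = k * ((g : GL I8 F) : Matrix I8 I8 F)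
    conv_rhs => rw [h2]
    rw [Matrix.mul_assoc, h3, Matrix.mul_one]

/-- **the groups normalising a quadratic field** -/
theorem card_field (hF : Nat.card F = p ^ a) (h : RB p a r b) (pr : Pair H g₁ g₂ r) {K : Subalgebra F (Matrix I8 I8 F)}
    (hK : IsFieldSubalgebra 2 K) (hadj : IsAdjointClosedFor (polar (quadFormPlus 4 F)) K)
    (hHK : H ≤ subalgebraNormalizer K) :
    Nat.card H ∣ 2 * (2 * ((p ^ a) ^ 2) ^ 2 * (((p ^ a) ^ 2) ^ 4 - 1) ^ 2) := by
  have hne : Nonempty I8 := ⟨Sum.inl 0⟩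
  have hQ : Nondeg (quadPlus 4 F) := nondeg_iff.2 quadPlus_nondegenerate
  have hcoe : ⇑(quadPlus 4 F) = quadFormPlus 4 F := coe_quadPlus 4 F
  have hH := pr.le
  rw [← hcoe] at hH hadj
  have hr4 := h.ppF hF
  have hq := Finite.one_lt_card (α := F)
  have hrodd : Odd r := hr4.odd (by omega)
  have i₁ := iso_of hF h (pr.le pr.mem₁) pr.pow₁
  have huc := H781.O8.comm_odd hK (hHK pr.mem₁) hrodd pr.pow₁
  have huc2 := H781.O8.comm_odd hK (hHK pr.mem₂) hrodd pr.pow₂
  have hrd : r ∣ Fintype.card F ^ 2 + 1 := by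
    rw [← Nat.card_eq_fintype_card]
    have h2 : r ∣ Nat.card F ^ 4 - 1 := (hr4.dvd_iff (by omega) 4).2 dvd_rfl
    have h3 : ¬ r ∣ Nat.card F ^ 2 - 1 := fun h3 => by
      have := (hr4.dvd_iff (by omega) 2).1 h3
      omega
    have e : Nat.card F ^ 4 - 1 = (Nat.card F ^ 2 + 1) * (Nat.card F ^ 2 - 1) := by
      have h5 := Nat.sq_sub_sq (Nat.card F ^ 2) 1
      rw [one_pow, ← pow_mul] at h5
      exact h5
    rw [e] at h2
    exact (h.prim.prime.dvd_mul.1 h2).resolve_right h3
  have hx : lin g₁ ^ (Fintype.card F ^ 2 + 1) = 1 := by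
    obtain ⟨c, hc⟩ := hrd
    rw [hc, pow_mul, i₁.pow, one_pow]
  have hsa : ∀ k ∈ K, ∀ u v : I8 → F, polar (quadPlus 4 F) (k *ᵥ u) v = polar (quadPlus 4 F) u (k *ᵥ v) :=
    fun k hk u v => H781.O8.self_adj hQ hK hadj i₁ hr4 pr.dim₁ (by omega) hx huc hk u v
  letI := fieldOf hK
  have hKfin : Finite K := Module.finite_of_finite F
  letI : Fintype K := Fintype.ofFinite K
  have hsm : ∀ (k : K) (x : I8 → F), k • x = (k : Matrix I8 I8 F) *ᵥ x := fun k x => rfl
  -- alternating forms in characteristic two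
  have hal : (2 : F) = 0 → ∀ (k : K) (v : I8 → F), polar (quadPlus 4 F) (k • v) v = 0 := by
    intro h2 k
    have hadd : ∀ u v : I8 → F, polar (quadPlus 4 F) (k • (u + v)) (u + v) =
        polar (quadPlus 4 F) (k • u) u + polar (quadPlus 4 F) (k • v) v := by
      intro u v
      have h3 : polar (quadPlus 4 F) (k • v) u = polar (quadPlus 4 F) (k • u) v := by
        rw [hsm, hsm, hsa k k.2 v u, polar_comm]
      rw [smul_add, polar_add_left, polar_add_right, polar_add_right, h3]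
      linear_combination (polar (quadPlus 4 F) (k • u) v) * h2
    have hsmul : ∀ (c : F) (v : I8 → F), polar (quadPlus 4 F) (k • (c • v)) (c • v) =
        c * c * polar (quadPlus 4 F) (k • v) v := by
      intro c v
      rw [smul_comm, polar_smul_left, polar_smul_right, smul_eq_mul, smul_eq_mul, mul_assoc]
    let N : Submodule F (I8 → F) :=
      { carrier := {v | polar (quadPlus 4 F) (k • v) v = 0}
        add_mem' := by
          intro u v hu hv
          rw [Set.mem_ofPred_eq] at hu hv ⊢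
          rw [hadd, hu, hv, add_zero]
        zero_mem' := by
          rw [Set.mem_ofPred_eq, polar_zero_right]
        smul_mem' := by
          intro e v hv
          rw [Set.mem_ofPred_eq] at hv ⊢
          rw [hsmul, hv, mul_zero] }
    have hN : ∀ v, v ∈ N ↔ polar (quadPlus 4 F) (k • v) v = 0 := fun v => Iff.rfl
    have hNcard : Nat.card (I8 → F) ≤ Nat.card N * Nat.card F := by
      let φ : (I8 → F) →+ F :=
        { toFun := fun v => polar (quadPlus 4 F) (k • v) v
          map_zero' := by rw [polar_zero_right]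
          map_add' := hadd }
      have h1 : Nat.card (I8 → F) = Nat.card φ.ker * Nat.card φ.range := by
        rw [← AddSubgroup.card_mul_index φ.ker, AddSubgroup.index_ker]
      have h2 : Nat.card φ.ker = Nat.card N := by
        refine Nat.card_congr (Equiv.subtypeEquivRight fun v => ?_)
        rw [AddMonoidHom.mem_ker]
        exact Iff.rfl
      rw [h1, h2]
      exact Nat.mul_le_mul_left _ (Nat.card_le_card_of_injective (Subtype.val : φ.range → F) Subtype.val_injective)
    have hinv : ∀ g ∈ H, (∀ x ∈ K, (g : Matrix I8 I8 F) * x = x * (g : Matrix I8 I8 F)) → _root_.Cfsg.Agent.H951.Inv (lin g) N := by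
      intro g hg hc v hv
      rw [hN] at hv ⊢
      have h3 : k • (lin g v) = lin g (k • v) := by
        rw [hsm, hsm]
        change (k : Matrix I8 I8 F) *ᵥ ((g : Matrix I8 I8 F) *ᵥ v) = (g : Matrix I8 I8 F) *ᵥ ((k : Matrix I8 I8 F) *ᵥ v)
        rw [Matrix.mulVec_mulVec, Matrix.mulVec_mulVec, hc k k.2]
      have hiso : ∀ v, quadPlus 4 F (lin g v) = quadPlus 4 F v := lin_iso hH hg
      rw [h3, polar_isom hiso, hv]
    have h4 : Nat.card N = Nat.card F ^ finrank F N := Module.natCard_eq_pow_finrank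
    have h5 : Nat.card (I8 → F) = Nat.card F ^ 8 := by
      rw [Module.natCard_eq_pow_finrank (K := F), Module.finrank_fintype_fun_eq_card]
      simp
    rw [h4, h5, ← pow_succ] at hNcard
    have h6 := (Nat.pow_le_pow_iff_right hq).1 hNcard
    intro v
    rcases pr.inv_cases hF h (hinv g₁ pr.mem₁ huc) (hinv g₂ pr.mem₂ huc2) with h7 | h7 | h7 | h7
    · rw [h7, finrank_bot] at h6; omega
    · rw [h7, pr.dim₁] at h6; omega
    · rw [h7, pr.dim₂] at h6; omega
    · have : v ∈ N := by rw [h7]; exact Submodule.mem_top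
      exact this
  obtain ⟨H1, hle, hdvd, hc⟩ := card_comm hK hHK
  refine hdvd.trans (mul_dvd_mul_left 2 ?_)
  have h2 : 2 * finrank K (I8 → F) = Fintype.card I8 := finrank_mul hK
  have h8 : Fintype.card I8 = 8 := by simp
  have h9 : finrank K (I8 → F) = 4 := by omega
  have hKc : Nat.card K = (p ^ a) ^ 2 := by
    rw [Module.natCard_eq_pow_finrank (K := F), hK.finrank_eq, hF]
  let A : Subgroup ((I8 → F) ≃ₗ[F] (I8 → F)) := H1.map (glEquiv I8 F).toMonoidHom
  have hA : Nat.card H1 = Nat.card A := by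
    rw [Subgroup.card_map_of_injective (glEquiv I8 F).injective]
  have hmem : ∀ x ∈ A, ∃ g ∈ H1, ∀ v, x v = lin g v := by
    rintro x ⟨g, hg, rfl⟩
    exact ⟨g, hg, fun v => rfl⟩
  rw [hA, ← hKc]
  refine card_centralizer (K := K) (A := A) hQ (fun k u v => hsa k k.2 u v) hal h9 ?_ ?_
  · intro x hx
    obtain ⟨g, hg, hgx⟩ := hmem x hx
    intro v
    have hiso : ∀ v, quadPlus 4 F (lin g v) = quadPlus 4 F v := lin_iso hH (hle hg)
    rw [hgx, hiso]
  · intro x hx k v
    obtain ⟨g, hg, hgx⟩ := hmem x hx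
    rw [hgx, hgx, hsm, hsm]
    change (g : Matrix I8 I8 F) *ᵥ ((k : Matrix I8 I8 F) *ᵥ v) = (k : Matrix I8 I8 F) *ᵥ ((g : Matrix I8 I8 F) *ᵥ v)
    rw [Matrix.mulVec_mulVec, Matrix.mulVec_mulVec, hc g hg k k.2]

end Cfsg.Agent.H683.O8R
end

-- part: H683/O8R/FourOf
section
/-!
# S3691, `PΩ₈⁺(q)`: subgroups with noncyclic Sylow `r₄`-subgroups (box F4, helper683)
-/

set_option autoImplicit false
set_option linter.unusedSectionVars false

namespace Cfsg.Agent.H683.O8R

open Module QuadraticMap Cfsg Cfsg.Geo Cfsg.Agent.LieClassical.OrthCore Cfsg.Agent.H955 Cfsg.Agent.H954.TSing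
open Cfsg.Agent.LieClassical.OmegaReindex Cfsg.Agent.H915.LD
open Cfsg.Agent.H951 (fx cm Inv)
open Cfsg.Agent.H884.El
open Cfsg.Agent.H708.O8
open Cfsg.Agent.H436 (Prim)
open Cfsg.Agent.H823.O8R (Nm)
open scoped MatrixGroups Matrix

variable {F : Type} [Field F] [Fintype F] {p a r b s k t : ℕ} {R : Subgroup (T8 F)}

/-- **divisors of the order** -/
theorem card_four (hKn : ∀ (X : Type) [Group X] [Finite X] [IsSimpleGroup X], Cfsg.IsKnownSimple' X)
    (hF : Nat.card F = p ^ a) (h : RB p a r b) (h4 : 4 ≤ p ^ a) (hR : R ≠ ⊤) (hd : r ^ (b + 1) ∣ Nat.card R) :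
    Nat.card R ∣ 2 * ((2 * (p ^ a) ^ 2 * ((p ^ a) ^ 4 - 1) ^ 2) * (2 * (p ^ a) ^ 2 * ((p ^ a) ^ 4 - 1) ^ 2)) ∨
      Nat.card R ∣ 2 * (2 * ((p ^ a) ^ 2) ^ 2 * (((p ^ a) ^ 2) ^ 4 - 1) ^ 2) := by
  have hcp : Nat.card R ∣ Nat.card (pre (quadFormPlus 4 F) R) := card_dvd_pre
  obtain ⟨g₁, g₂, pr⟩ := exists_pair_pre hF h hd
  rcases geo4 hF h (hd.trans hcp) pr with ⟨P, hP, -⟩ | hsw | ⟨K, hK1, hK2, hK3⟩
  · exfalso
    obtain ⟨S, hSn, hSs, hna, hC, ⟨e⟩⟩ := H264.FKS.exists_res_plus le_rfl (M := R) hP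
    by_cases hL : IsLieTypeChar p (Soc P)
    · exact H659.O8.own_card hF h hR S hSs hna hC hP e hL hd
    · have := hP.simple
      exact H105.O8.cross_card hF h4 h S hSs hna hC hP e hL (hKn (Soc P)) hd
  · exact Or.inl (hcp.trans (card_swap hF h pr hsw))
  · exact Or.inr (hcp.trans (card_field hF h pr hK1 hK2 hK3))

theorem num_four {N : ℕ} (h : Nm p a r b s k t)
    (hN : N ∣ 2 * ((2 * (p ^ a) ^ 2 * ((p ^ a) ^ 4 - 1) ^ 2) * (2 * (p ^ a) ^ 2 * ((p ^ a) ^ 4 - 1) ^ 2)) ∨
      N ∣ 2 * (2 * ((p ^ a) ^ 2) ^ 2 * (((p ^ a) ^ 2) ^ 4 - 1) ^ 2)) :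
    ¬ s ∣ N ∧ ¬ t ∣ N ∧ N.factorization p ≤ 4 * a + (if p = 2 then 3 else 0) := by
  have hp := h.rb.hp
  have ha := h.rb.ha
  have h1 : ((p ^ a) ^ 2) ^ 4 - 1 = p ^ (8 * a) - 1 := by
    rw [← pow_mul, ← pow_mul]
    congr 2
    ring
  have h2 : (p ^ a) ^ 4 - 1 ∣ p ^ (8 * a) - 1 := by
    have h3 : p ^ (8 * a) = ((p ^ a) ^ 4) ^ 2 := by
      rw [← pow_mul, ← pow_mul]
      congr 1
      ring
    have h4 := Nat.sub_dvd_pow_sub_pow ((p ^ a) ^ 4) 1 2
    rwa [one_pow, ← h3] at h4
  have hq : (p ^ a) ^ 4 = p ^ (4 * a) := by rw [← pow_mul, mul_comm]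
  have hN' : N ∣ 8 * p ^ (4 * a) * (p ^ (8 * a) - 1) ^ 4 := by
    rcases hN with h3 | h3
    · refine h3.trans ?_
      obtain ⟨c, hc⟩ := h2
      rw [hc, ← hq]
      exact ⟨c ^ 4, by ring⟩
    · refine h3.trans ?_
      rw [h1, ← hq]
      exact ⟨2 * (p ^ (8 * a) - 1) ^ 2, by ring⟩
  have key : ∀ {e x : ℕ}, Prim p e x → ¬ e ∣ 8 * a → 3 ≤ e → ¬ x ∣ N := by
    intro e x hx he he3 hd
    have h5 := hd.trans hN'
    rcases hx.prime.dvd_mul.1 h5 with h6 | h6
    · rcases hx.prime.dvd_mul.1 h6 with h7 | h7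
      · have h8 : x ∣ 2 ^ 3 := h7
        exact hx.not_dvd_two he3 (hx.prime.dvd_of_dvd_pow h8)
      · exact hx.not_dvd_pow _ h7
    · exact hx.not_dvd_sub he (hx.prime.dvd_of_dvd_pow h6)
  refine ⟨key h.rk.prim ?_ (by omega), key h.t ?_ (by omega), ?_⟩
  · rintro ⟨c, hc⟩
    have : 6 * c = 8 := by
      apply Nat.eq_of_mul_eq_mul_left (show 0 < a by omega)
      rw [show a * 8 = 8 * a from mul_comm _ _, hc]
      ring
    omega
  · rintro ⟨c, hc⟩
    have : 3 * c = 8 := by
      apply Nat.eq_of_mul_eq_mul_left (show 0 < a by omega)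
      rw [show a * 8 = 8 * a from mul_comm _ _, hc]
      ring
    omega
  · have h8a : p ^ (8 * a) - 1 ≠ 0 := by
      have : 1 < p ^ (8 * a) := Nat.one_lt_pow (by omega) hp.one_lt
      omega
    have hne : 8 * p ^ (4 * a) * (p ^ (8 * a) - 1) ^ 4 ≠ 0 :=
      mul_ne_zero (mul_ne_zero (by norm_num) (pow_ne_zero _ hp.ne_zero)) (pow_ne_zero _ h8a)
    have hN0 : N ≠ 0 := fun h0 => hne (by rw [h0] at hN'; exact Nat.eq_zero_of_zero_dvd hN')
    have h9 := (Nat.factorization_le_iff_dvd hN0 hne).2 hN' p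
    refine h9.trans ?_
    have h10 : ¬ p ∣ p ^ (8 * a) - 1 := by
      intro hd
      have h11 : p ∣ p ^ (8 * a) := dvd_pow_self p (by omega)
      have h12 := (Nat.dvd_sub h11 hd)
      rw [Nat.sub_sub_self (Nat.one_le_pow _ _ hp.pos)] at h12
      exact hp.one_lt.ne' (Nat.dvd_one.1 h12)
    rw [Nat.factorization_mul (mul_ne_zero (by norm_num) (pow_ne_zero _ hp.ne_zero)) (pow_ne_zero _ h8a),
      Nat.factorization_mul (by norm_num) (pow_ne_zero _ hp.ne_zero), Nat.factorization_pow, Nat.factorization_pow, hp.factorization]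
    simp only [Finsupp.add_apply, Finsupp.smul_apply, Finsupp.single_eq_same, smul_eq_mul, mul_one]
    rw [Nat.factorization_eq_zero_of_not_dvd h10]
    have h13 : (8 : ℕ).factorization p ≤ if p = 2 then 3 else 0 := by
      rw [show (8 : ℕ) = 2 ^ 3 from rfl, Nat.prime_two.factorization_pow]
      by_cases h2 : p = 2
      · subst h2
        simp
      · rw [if_neg h2, Finsupp.single_eq_of_ne (by omega)]
    omega

/-- **(F4)** -/
theorem f4_of (hKn : ∀ (X : Type) [Group X] [Finite X] [IsSimpleGroup X], Cfsg.IsKnownSimple' X)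
    (hF : Nat.card F = p ^ a) (h : Nm p a r b s k t) (hR : R ≠ ⊤) (hd : r ^ (b + 1) ∣ Nat.card R) :
    ¬ s ∣ Nat.card R ∧ ¬ t ∣ Nat.card R ∧ (Nat.card R).factorization p ≤ 4 * a + (if p = 2 then 3 else 0) :=
  num_four h (card_four hKn hF h.rb (by have := h.q16; omega) hR hd)

end Cfsg.Agent.H683.O8R
end
end
end
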